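import Mathlib
import Cfsg.Prelude.Def_OddOrderLocal
import Cfsg.Agent.Lib.Helper6.BG.S1437Defs
import Cfsg.Agent.Lib.Helper35.BG.Hall
import Cfsg.Agent.Lib.Helper35.BG.S1355Core
import Cfsg.Agent.Lib.Helper47.BG.S1385Core
import Cfsg.Agent.Lib.Helper67.BG.Basics
import Cfsg.Agent.Lib.Helper71.BG.TypeBasics
import Cfsg.Agent.Lib.Helper71.BG.TypeBasics2
import Cfsg.Agent.Lib.Helper71.BG.TypeBasics3

/-!
# S1437 package PK1 (Bender–Glauberman front end)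

`M_F ≠ M_σ` forces `U = 1`, `K ≠ 1`, `M_σ = M'`, `M_σ` not nilpotent, `M = M_σ K`, coprime
orders and `[M_σ, K] = M_σ`.
-/

set_option autoImplicit false

namespace Cfsg.Agent.Lib.Helper71.BG37

open Cfsg Cfsg.Agent.Lib.Helper35.BG Cfsg.Agent.Lib.Helper67.BG Cfsg.Agent.Lib.Helper47.BG
  Cfsg.Agent.Lib.Helper71.BG

universe u

open scoped commutatorElement

/-- If `M = N K` with `N` normal in `M` and `K` abelian, then `M' ≤ N`. -/
theorem commutator_le_of_isComplIn {G : Type*} [Group G] {N K M : Subgroup G}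
    (hc : IsComplIn N K M) (hMN : M ≤ Subgroup.normalizer (N : Set G))
    (hK : ∀ a ∈ K, ∀ b ∈ K, a * b = b * a) : ⁅M, M⁆ ≤ N := by
  have hNM := hc.1
  have hKM := hc.2.1
  have hnorm : (N.subgroupOf M).Normal :=
    (Subgroup.normal_subgroupOf_iff_le_normalizer hNM).mpr hMN
  rw [Subgroup.commutator_le]
  intro x hx y hy
  obtain ⟨a, ha, k, hk, rfl⟩ := hc.2.2.2 x hx
  obtain ⟨b, hb, l, hl, rfl⟩ := hc.2.2.2 y hy
  have hker : ∀ z : M, QuotientGroup.mk' (N.subgroupOf M) z = 1 ↔ (z : G) ∈ N := by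
    intro z
    rw [QuotientGroup.mk'_apply, QuotientGroup.eq_one_iff, Subgroup.mem_subgroupOf]
  have h1 : QuotientGroup.mk' (N.subgroupOf M) ⟨a * k, hx⟩
      = QuotientGroup.mk' (N.subgroupOf M) ⟨k, hKM hk⟩ := by
    have e : (⟨a * k, hx⟩ : M) = ⟨a, hNM ha⟩ * ⟨k, hKM hk⟩ := rfl
    rw [e, map_mul, (hker ⟨a, hNM ha⟩).mpr ha, one_mul]
  have h2 : QuotientGroup.mk' (N.subgroupOf M) ⟨b * l, hy⟩
      = QuotientGroup.mk' (N.subgroupOf M) ⟨l, hKM hl⟩ := by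
    have e : (⟨b * l, hy⟩ : M) = ⟨b, hNM hb⟩ * ⟨l, hKM hl⟩ := rfl
    rw [e, map_mul, (hker ⟨b, hNM hb⟩).mpr hb, one_mul]
  have h3 : QuotientGroup.mk' (N.subgroupOf M) ⁅(⟨a * k, hx⟩ : M), (⟨b * l, hy⟩ : M)⁆ = 1 := by
    rw [map_commutatorElement, h1, h2, ← map_commutatorElement]
    have e : ⁅(⟨k, hKM hk⟩ : M), (⟨l, hKM hl⟩ : M)⁆ = 1 := by
      rw [commutatorElement_eq_one_iff_mul_comm]
      exact Subtype.ext (hK k hk l hl)
    rw [e, map_one]
  exact (hker _).mp h3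

theorem pk1 : Cfsg.Agent.Lib.Helper6.BG37.PK1.{u} := by
  intro G _ _ hG h1350 h1426 h1429 M hM K U hKU hne
  obtain ⟨hHall, -, -⟩ := h1350 M hM
  have hσM : sigmaCore M ≤ M := sigmaCore_le M
  have hσn : M ≤ Subgroup.normalizer (sigmaCore M : Set G) := sigmaCore_normalizer M
  have hFσ : fittingHallOf M ≤ sigmaCore M := fittingHallOf_le_sigmaCore hG M hM
  have hKM : K ≤ M := hKU.hall.1
  -- `M_σ` is not nilpotent
  have hnn : ¬ Group.IsNilpotent ↥(sigmaCore M) := by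
    intro hnil
    exact hne (le_antisymm hFσ (le_fittingHallOf hσM hσn hnil (coprime_of_isPiHallOf hHall)))
  -- `U = 1`
  have hU : U = ⊥ := by
    by_contra hU1
    have hUH := isPiHallOf_of_sigmaDecomposition hHall hKU
    have hUcard : Nat.card U ≠ 1 := fun h => hU1 (Subgroup.card_eq_one.mp h)
    obtain ⟨p, hp, hpU⟩ := Nat.exists_prime_and_dvd hUcard
    have hpF : Fact p.Prime := ⟨hp⟩
    obtain ⟨-, hpκ, hpσ⟩ := hUH.2.1 p hp hpU
    have hpM : p ∣ Nat.card M := dvd_trans hpU (Subgroup.card_dvd_of_le hKU.compl.1)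
    have hP1 : ¬ (∀ q : ℕ, q.Prime → q ∣ Nat.card M → q ∉ Cfsg.sigma M → q ∈ Cfsg.kappa M) :=
      fun h => hpκ (h p hp hpM hpσ)
    have hpσκ : p ∉ Cfsg.sigma M ∪ Cfsg.kappa M := by
      rintro (h | h)
      · exact hpσ h
      · exact hpκ h
    obtain ⟨S⟩ : Nonempty (Sylow p M) := inferInstance
    exact hnn (h1429 M hM hP1 p hpM hpσκ S).2.2
  -- `M = M_σ K` with `M_σ ∩ K = 1`
  have hinf : K ⊓ sigmaCore M = ⊥ := sigmaDecomposition_inf_sigmaCore M K U hKU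
  have hc0 : IsComplIn (U ⊔ sigmaCore M) K M := sigmaDecomposition_complIn M K U hKU
  rw [hU, bot_sup_eq] at hc0
  have hcK : IsComplIn K (sigmaCore M) M := by
    refine ⟨hKM, hσM, hinf, ?_⟩
    intro m hm
    obtain ⟨a, ha, b, hb, hab⟩ := hc0.2.2.2 m⁻¹ (M.inv_mem hm)
    refine ⟨b⁻¹, K.inv_mem hb, a⁻¹, (sigmaCore M).inv_mem ha, ?_⟩
    rw [← mul_inv_rev, ← hab, inv_inv]
  obtain ⟨-, hcomm, -⟩ := h1426 M hM K hcK
  -- `K ≠ 1`
  have hK1 : K ≠ ⊥ := by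
    intro hK
    apply hnn
    have h1 : ⁅sigmaCore M, K⁆ = ⊥ := by
      rw [hK, eq_bot_iff, Subgroup.commutator_le]
      intro a _ b hb
      rw [Subgroup.mem_bot] at hb
      rw [hb, Subgroup.mem_bot]
      simp
    rw [h1] at hcomm
    rw [← hcomm]
    exact Cfsg.Agent.Lib.Helper71.BG.isNilpotent_of_comm
      ⟨⟨fun a b => Subtype.ext (by
        have ha := Subgroup.mem_bot.mp a.2
        have hb := Subgroup.mem_bot.mp b.2
        simp [ha, hb])⟩⟩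
  have hcyc := hKU.cyclic
  have hKcomm : ∀ a ∈ K, ∀ b ∈ K, a * b = b * a := by
    intro a ha b hb
    have := (IsCyclic.isMulCommutative (α := ↥K)).is_comm.comm ⟨a, ha⟩ ⟨b, hb⟩
    exact congrArg Subtype.val this
  refine ⟨hU, hK1, ?_, hnn, ?_, ?_, hcomm⟩
  · apply le_antisymm
    · calc sigmaCore M = ⁅sigmaCore M, K⁆ := hcomm.symm
        _ ≤ ⁅M, M⁆ := Subgroup.commutator_mono hσM hKM
    · exact commutator_le_of_isComplIn hc0 hσn hKcomm
  · apply le_antisymm (sup_le hσM hKM)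
    intro m hm
    obtain ⟨a, ha, b, hb, rfl⟩ := hc0.2.2.2 m hm
    exact Subgroup.mul_mem _ (Subgroup.mem_sup_left ha) (Subgroup.mem_sup_right hb)
  · by_contra hne1
    obtain ⟨p, hp, hpd⟩ := Nat.exists_prime_and_dvd hne1
    have h1 := sigmaCore_isPi M p hp (dvd_trans hpd (Nat.gcd_dvd_left _ _))
    have h2 := hKU.hall.2.1 p hp (dvd_trans hpd (Nat.gcd_dvd_right _ _))
    exact h2.2.2.1 h1

end Cfsg.Agent.Lib.Helper71.BG37
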