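import Mathlib
import Cfsg.Prelude.Def_OddOrderLocal
import Cfsg.Agent.S1446
import Cfsg.Agent.Lib.Helper6.BG.S1437Defs
import Cfsg.Agent.Lib.Helper1.MixBase
import Cfsg.Agent.Lib.Helper35.BG.Hall
import Cfsg.Agent.Lib.Helper67.BG.Basics
import Cfsg.Agent.Lib.Helper81.BG.S1431Star

/-!
# S1437 package PK2 (Bender–Glauberman front end)

`K* = C_{M_σ}(K)` has prime order when `U = 1` and `K ≠ 1`: pass to the partner `M*` (S1366), whose
standard factorisation `M* = K* U* M*_σ` has `U* ≠ 1` (S1369), and apply the landed S1446 to the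
action of `U* K*` on `M*_σ`.
-/

set_option autoImplicit false

namespace Cfsg.Agent.Lib.Helper71.BG37

open Cfsg Cfsg.Agent.Lib.Helper46 Cfsg.Agent.Lib.Helper35.BG Cfsg.Agent.Lib.Helper67.BG
  Cfsg.Agent.Lib.Helper81.BG

universe u

/-- In a standard factorisation `M = K U M_σ` with `K ≠ 1` and `U ≠ 1`, the group `K` has prime
order (S1350, S1353, S1429, S1430 as hypotheses; the landed S1446). -/
theorem card_prime_of_sigmaDecomposition {G : Type u} [Group G] [Finite G]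
    (hG : Cfsg.IsMinSimpleOddOrder G)
    (h1350 : type_of% (@Cfsg.CfsgFrozen.S1350 G _ _ hG))
    (h1353 : type_of% (@Cfsg.CfsgFrozen.S1353 G _ _ hG))
    (h1429 : type_of% (@Cfsg.CfsgFrozen.S1429 G _ _ hG))
    (h1430 : type_of% (@Cfsg.CfsgFrozen.S1430 G _ _ hG))
    (M : Subgroup G) (hM : IsCoatom M) (K U : Subgroup G) (hKU : Cfsg.IsSigmaDecomposition M K U)
    (hK1 : K ≠ ⊥) (hU1 : U ≠ ⊥) : (Nat.card K).Prime := by
  obtain ⟨hHall, -, -⟩ := h1350 M hM
  have hUH := isPiHallOf_of_sigmaDecomposition hHall hKU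
  have hUM : U ≤ M := hKU.compl.1
  have hKM : K ≤ M := hKU.hall.1
  have hσM : sigmaCore M ≤ M := sigmaCore_le M
  -- a prime `p` dividing `|U|`
  have hUcard : Nat.card U ≠ 1 := by
    intro h
    exact hU1 (Subgroup.card_eq_one.mp h)
  obtain ⟨p, hp, hpU⟩ := Nat.exists_prime_and_dvd hUcard
  have hpF : Fact p.Prime := ⟨hp⟩
  obtain ⟨-, hpκ, hpσ⟩ := hUH.2.1 p hp hpU
  have hpM : p ∣ Nat.card M := dvd_trans hpU (Subgroup.card_dvd_of_le hUM)
  have hP1 : ¬ (∀ q : ℕ, q.Prime → q ∣ Nat.card M → q ∉ Cfsg.sigma M → q ∈ Cfsg.kappa M) :=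
    fun h => hpκ (h p hp hpM hpσ)
  -- a Sylow `p`-subgroup of `U` is a Sylow `p`-subgroup of `M`
  obtain ⟨P₀⟩ : Nonempty (Sylow p U) := inferInstance
  have hP₀ : IsSylowIn p ((P₀ : Subgroup U).map U.subtype) U := isSylowIn_of_sylow P₀
  have hPU : (P₀ : Subgroup U).map U.subtype ≤ U := hP₀.1
  have hPp : IsPGroup p ((P₀ : Subgroup U).map U.subtype) :=
    IsPGroup.of_card (n := (Nat.card U).factorization p) hP₀.2
  have hPidxU : ¬ p ∣ ((P₀ : Subgroup U).map U.subtype).relIndex U := by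
    have h1 : ((P₀ : Subgroup U).map U.subtype).relIndex U = (P₀ : Subgroup U).index := by
      unfold Subgroup.relIndex
      congr 1
      ext x
      simp [Subgroup.mem_subgroupOf]
    rw [h1]
    exact P₀.not_dvd_index
  have hPidxM : ¬ p ∣ ((P₀ : Subgroup U).map U.subtype).relIndex M := by
    rw [← Subgroup.relIndex_mul_relIndex _ U M hPU hUM]
    intro h
    rcases (Nat.Prime.dvd_mul hp).mp h with h | h
    · exact hPidxU h
    · exact hUH.2.2 p hp ⟨hp, hpκ, hpσ⟩ h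
  have hPM : IsSylowIn p ((P₀ : Subgroup U).map U.subtype) M :=
    sylIn_of_not_dvd_relIndex (hPU.trans hUM) hPp hPidxM
  obtain ⟨S, hS⟩ := hPM.exists_sylow
  have hpσκ : p ∉ Cfsg.sigma M ∪ Cfsg.kappa M := by
    rintro (h | h)
    · exact hpσ h
    · exact hpκ h
  obtain ⟨-, hC, hnil⟩ := h1429 M hM hP1 p hpM hpσκ S
  -- `C_{M_σ}(U) = 1`
  have hCU : sigmaCore M ⊓ Subgroup.centralizer (U : Set G) = ⊥ := by
    rw [eq_bot_iff, ← hC]
    refine inf_le_inf le_rfl (Subgroup.centralizer_le ?_)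
    have : Subgroup.closure {x : G | x ∈ (S : Subgroup M).map M.subtype ∧ x ^ p = 1} ≤ U := by
      rw [Subgroup.closure_le]
      rintro x ⟨hx, -⟩
      rw [hS] at hx
      exact hPU hx
    exact this
  -- `M_σ ≠ 1`
  have hσ1 : sigmaCore M ≠ ⊥ := by
    have hKcard : Nat.card K ≠ 1 := fun h => hK1 (Subgroup.card_eq_one.mp h)
    obtain ⟨q, hq, hqK⟩ := Nat.exists_prime_and_dvd hKcard
    have hqκ : q ∈ kappa M := hKU.hall.2.1 q hq hqK
    have : Fact q.Prime := ⟨hq⟩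
    obtain ⟨Q⟩ : Nonempty (Sylow q M) := inferInstance
    obtain ⟨-, x, -, -, y, hy, hy1, -⟩ := hqκ.2.2.2 Q
    intro h
    rw [h, Subgroup.mem_bot] at hy
    exact hy1 hy
  have hUK : U ⊓ K = ⊥ := by
    rw [eq_bot_iff, ← hKU.compl.2.2.1]
    exact inf_le_inf le_rfl le_sup_left
  have hUKM : U ⊔ K ≤ M := sup_le hUM hKM
  have hMtop : M ≠ ⊤ := hM.1
  have hUKtop : U ⊔ K ≠ ⊤ := fun h => hMtop (top_le_iff.mp (h ▸ hUKM))
  -- coprimality
  have hcop : (Nat.card ↥(U ⊔ K)).Coprime (Nat.card (sigmaCore M)) := by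
    apply Nat.coprime_of_dvd
    intro q hq hq1 hq2
    have hqσ : q ∈ sigma M := sigmaCore_isPi M q hq hq2
    have h1 : Nat.card ↥(K ⊔ U) ∣ Nat.card K * Nat.card U :=
      Cfsg.Agent.Lib.Helper1.Mix.card_sup_dvd K U hKU.normal
    rw [sup_comm] at hq1
    rcases (Nat.Prime.dvd_mul hq).mp (dvd_trans hq1 h1) with h | h
    · exact (hKU.hall.2.1 q hq h).2.2.1 hqσ
    · exact (hUH.2.1 q hq h).2.2 hqσ
  exact (Cfsg.Agent.S1446.result U K (sigmaCore M) hU1 hK1 hUK hKU.normal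
    (h1353 M hM K U hKU) (isSolvable_of_ne_top hG hUKtop) (odd_card_subgroup hG _) hσ1 hnil
    (hUM.trans (sigmaCore_normalizer M)) (hKM.trans (sigmaCore_normalizer M)) hcop hCU
    (h1430 M hM K hKU.hall hK1).1).1

theorem pk2 : Cfsg.Agent.Lib.Helper6.BG37.PK2.{u} := by
  intro G _ _ hG h1350 h1351 h1352 h1353 h1354 h1366 h1369 h1429 h1430 M hM K U hKU hU hK1
  obtain ⟨Ms, ⟨hMs, hKst, hKsH⟩, -⟩ := h1366 M hM K U hKU hK1
  have hKsc : IsCyclic ↥(sigmaCore M ⊓ Subgroup.centralizer (K : Set G)) :=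
    (h1351 Ms hMs).2 _ hKsH
  obtain ⟨Us, hUs⟩ := (h1352 Ms hMs _ hKsc hKsH).1
  have hUs1 : Us ≠ ⊥ := by
    rcases (h1369 M hM K U hKU hK1 Ms hMs hKst hKsH).1 with h | h
    · exact absurd hU h
    · exact h Us hUs
  have hKs1 : sigmaCore M ⊓ Subgroup.centralizer (K : Set G) ≠ ⊥ :=
    (h1354 M hM K hKU.cyclic hKU.hall).1
  exact card_prime_of_sigmaDecomposition hG h1350 h1353 h1429 h1430 Ms hMs _ Us hUs hKs1 hUs1

end Cfsg.Agent.Lib.Helper71.BG37
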